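import Cfsg.Agent.SmallCent.Index
import Cfsg.Agent.TwoGroups.MaxClassCriterion
import Cfsg.Agent.TwoGroups.Taussky
import Cfsg.Agent.TwoFusion.QDFusion
import Cfsg.Agent.Invol.NeedsOdd
import Cfsg.Agent.S3269
import Cfsg.Agent.S3278
import Cfsg.Agent.S3331
import Cfsg.Agent.S0848
import Cfsg.Agent.S0984

/-!
# Reduction to a dihedral Sylow 2-subgroup of order eight
-/

set_option autoImplicit false
set_option linter.unusedSectionVars false
set_option linter.style.haveILetI false

open Subgroup

namespace Cfsg.Agent.SmallCent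

universe u

variable {G : Type u} [Group G] [Finite G]

theorem card_centralizer_of_isConj {x y : G} (h : IsConj x y) :
    Nat.card (centralizer ({x} : Set G)) = Nat.card (centralizer ({y} : Set G)) := by
  obtain ⟨c, rfl⟩ := isConj_iff.1 h
  exact Nat.card_congr
    { toFun := fun k => ⟨c * k * c⁻¹, mem_centralizer_singleton_iff.2 (by
        have h1 := mem_centralizer_singleton_iff.1 k.2
        calc c * k * c⁻¹ * (c * x * c⁻¹) = c * ((k : G) * x) * c⁻¹ := by group
          _ = c * (x * k) * c⁻¹ := by rw [h1]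
          _ = c * x * c⁻¹ * (c * k * c⁻¹) := by group)⟩
      invFun := fun k => ⟨c⁻¹ * k * c, mem_centralizer_singleton_iff.2 (by
        have h1 := mem_centralizer_singleton_iff.1 k.2
        calc c⁻¹ * k * c * x = c⁻¹ * ((k : G) * (c * x * c⁻¹)) * c := by group
          _ = c⁻¹ * (c * x * c⁻¹ * k) * c := by rw [h1]
          _ = x * (c⁻¹ * k * c) := by group)⟩
      left_inv := fun k => Subtype.ext (by group)
      right_inv := fun k => Subtype.ext (by group) }

theorem not_isMulCommutative [IsSimpleGroup G] (hG : ¬ IsCyclic G) : ¬ IsMulCommutative G := by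
  intro h
  haveI := SmallGroups.prime_card_of_isMulCommutative h |> Fact.mk
  exact hG (isCyclic_of_prime_card (p := Nat.card G) rfl)

/-- An involution of a simple group is centralized by a group of order at least four. -/
theorem card_ne_two [IsSimpleGroup G] (hG : ¬ IsMulCommutative G) {w : G} :
    Nat.card (centralizer ({w} : Set G)) ≠ 2 := by
  intro h2
  haveI : Fact (Nat.Prime 2) := ⟨Nat.prime_two⟩
  obtain ⟨S, hS⟩ := (IsPGroup.of_card (p := 2) (G := centralizer ({w} : Set G)) (n := 1)
    (by rw [h2, pow_one])).exists_le_sylow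
  have hd : 2 ∣ Nat.card G := h2 ▸ card_subgroup_dvd_card _
  refine SmallGroups.not_isCyclic_sylow_two hG hd S ?_
  suffices h : (S : Subgroup G) ≤ centralizer ({w} : Set G) by
    haveI : Fact (Nat.Prime 2) := ⟨Nat.prime_two⟩
    exact isCyclic_of_prime_card (p := 2) ((congrArg (fun H : Subgroup G => Nat.card H)
      (le_antisymm h hS)).trans h2)
  haveI : Nontrivial (S : Subgroup G) := Finite.one_lt_card_iff_nontrivial.1
    (by have := card_le_of_le hS; omega)
  haveI := S.isPGroup'.center_nontrivial
  have hw : w ∈ (S : Subgroup G) := hS (mem_centralizer_singleton_iff.2 rfl)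
  obtain ⟨c, hc⟩ := exists_ne (1 : center (S : Subgroup G))
  have hcC : ((c : (S : Subgroup G)) : G) ∈ centralizer ({w} : Set G) :=
    mem_centralizer_singleton_iff.2
      (congrArg Subtype.val (mem_center_iff.1 c.2 ⟨w, hw⟩)).symm
  intro s hs
  rw [mem_centralizer_singleton_iff]
  have hsc : s * ((c : (S : Subgroup G)) : G) = ((c : (S : Subgroup G)) : G) * s :=
    congrArg Subtype.val (mem_center_iff.1 c.2 ⟨s, hs⟩)
  rcases eq_or_ne w 1 with rfl | hw1
  · simp
  have hwC : w ∈ centralizer ({w} : Set G) := mem_centralizer_singleton_iff.2 rfl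
  have hcw : ((c : (S : Subgroup G)) : G) = w := by
    haveI := isCyclic_of_prime_card (p := 2) h2
    have h1 := (Nat.card_eq_two_iff' (1 : centralizer ({w} : Set G))).1 h2
    exact congrArg Subtype.val (h1.unique (y₁ := ⟨_, hcC⟩) (y₂ := ⟨w, hwC⟩)
      (fun e => hc (Subtype.ext (Subtype.ext (congrArg Subtype.val e :))))
      (fun e => hw1 (congrArg Subtype.val e)))
  rw [hcw] at hsc
  exact hsc

/-- A self-centralizing element of order four in a simple group: the Sylow 2-subgroup is dihedral
of order eight. -/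
theorem exists_dih [IsSimpleGroup G] (hG : ¬ IsCyclic G) {w : G} (hw : orderOf w = 4)
    (hc : Nat.card (centralizer ({w} : Set G)) = 4) :
    ∃ (P : Sylow 2 G) (τ : G), DihBlock.Dih P w τ 2 ∧
      ∀ x y : G, orderOf x = 2 → orderOf y = 2 → IsConj x y := by
  classical
  haveI : Fact (Nat.Prime 2) := ⟨Nat.prime_two⟩
  have hG' := not_isMulCommutative hG
  have hno : ∀ H : Subgroup G, H.index ≠ 2 := by
    intro H hH
    rcases (normal_of_index_eq_two hH).eq_bot_or_eq_top with e | e
    · rw [e, index_bot] at hH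
      exact hG (isCyclic_of_prime_card (p := 2) hH)
    · rw [e, index_top] at hH; omega
  have hd : 2 ∣ Nat.card G := (show 2 ∣ 4 by norm_num).trans (hw ▸ orderOf_dvd_natCard w)
  obtain ⟨S, hS⟩ := (IsPGroup.of_card (p := 2) (G := zpowers w) (n := 2)
    (by rw [Nat.card_zpowers, hw]; rfl)).exists_le_sylow
  let t : (S : Subgroup G) := ⟨w, hS (mem_zpowers w)⟩
  have hto : orderOf t = 4 := by rw [← Subgroup.orderOf_coe]; exact hw
  have ht : Nat.card (centralizer ({t} : Set (S : Subgroup G))) = 4 := by
    refine le_antisymm ?_ ?_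
    · rw [← hc]
      refine Nat.card_le_card_of_injective (fun k => (⟨((k : (S : Subgroup G)) : G),
        mem_centralizer_singleton_iff.2
          (congrArg Subtype.val (mem_centralizer_singleton_iff.1 k.2))⟩ :
            centralizer ({w} : Set G))) fun k l e => ?_
      exact Subtype.ext (Subtype.ext (congrArg Subtype.val e :))
    · rw [← hto, ← Nat.card_zpowers]
      exact card_le_of_le (zpowers_le.2 (mem_centralizer_singleton_iff.2 rfl))
  have hna : ∃ x y : (S : Subgroup G), x * y ≠ y * x := by
    by_contra hab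
    push Not at hab
    refine SmallGroups.not_isCyclic_sylow_two hG' hd S ?_
    have htop : centralizer ({t} : Set (S : Subgroup G)) = ⊤ :=
      eq_top_iff.2 fun s _ => mem_centralizer_singleton_iff.2 (hab s t)
    rw [htop, card_top] at ht
    exact isCyclic_of_orderOf_eq_card t (hto.trans ht.symm)
  have hi := TwoGroups.index_commutator_of_card_centralizer S.isPGroup' hna ht
  rcases TwoGroups.cases_of_index_commutator_eq_four S.isPGroup' hi with h4 | ⟨n, hn, hcase⟩
  · exfalso
    have h1 := (commutator (S : Subgroup G)).card_mul_index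
    rw [hi, h4] at h1
    have hb : commutator (S : Subgroup G) = ⊥ := card_eq_one.1 (by omega)
    obtain ⟨x, y, hxy⟩ := hna
    refine hxy (commutatorElement_eq_one_iff_mul_comm.1 (mem_bot.1 (hb ▸ ?_)))
    exact commutator_mem_commutator (mem_top x) (mem_top y)
  rcases hcase with ⟨⟨e⟩⟩ | ⟨⟨e⟩⟩ | hQD
  · -- dihedral
    have hn2 : n = 2 := by
      by_contra hne
      haveI : NeZero (2 ^ n) := ⟨by positivity⟩
      have hr : ∀ i j : ZMod (2 ^ n),
          (DihedralGroup.r i) * DihedralGroup.r j = DihedralGroup.r j * DihedralGroup.r i := by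
        intro i j
        rw [DihedralGroup.r_mul_r, DihedralGroup.r_mul_r, add_comm]
      obtain ⟨i, hi'⟩ : ∃ i, e t = DihedralGroup.r i := by
        rcases h : e t with i | i
        · exact ⟨i, rfl⟩
        · exfalso
          have ho : orderOf (e t) = 4 := (e.orderOf_eq t).trans hto
          rw [h, DihedralGroup.orderOf_sr] at ho
          omega
      have hle : Nat.card (zpowers (e.symm (DihedralGroup.r 1))) ≤ 4 := by
        rw [← ht]
        refine card_le_of_le (zpowers_le.2 (mem_centralizer_singleton_iff.2 (e.injective ?_)))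
        rw [map_mul, map_mul, MulEquiv.apply_symm_apply, hi', hr]
      rw [Nat.card_zpowers, MulEquiv.orderOf_eq, DihedralGroup.orderOf_r_one] at hle
      have : 2 ^ 3 ≤ 2 ^ n := Nat.pow_le_pow_right two_pos (by omega)
      omega
    subst hn2
    haveI : NeZero (2 ^ 2) := ⟨by norm_num⟩
    have key : ∀ a : DihedralGroup (2 ^ 2), a * a ≠ 1 →
        DihedralGroup.sr 0 * a * (DihedralGroup.sr 0)⁻¹ = a⁻¹ ∧ a * a * (a * a) = 1 := by decide
    have hne : e t * e t ≠ 1 := fun h => by
      rw [← map_mul, MulEquiv.map_eq_one_iff, ← pow_two, ← orderOf_dvd_iff_pow_eq_one, hto] at h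
      norm_num at h
    obtain ⟨hinv, -⟩ := key (e t) hne
    set τ : (S : Subgroup G) := e.symm (DihedralGroup.sr 0) with hτ
    have hτe : e τ = DihedralGroup.sr 0 := e.apply_symm_apply _
    have hinv' : τ * t * τ⁻¹ = t⁻¹ := e.injective (by rw [map_mul, map_mul, map_inv, map_inv, hτe, hinv])
    have hsq : τ * τ = 1 := e.injective (by rw [map_mul, map_one, hτe, DihedralGroup.sr_mul_self])
    have D : DihBlock.Dih S w (τ : G) 2 :=
      { mem_σ := t.2
        mem_τ := τ.2
        pow2 := ⟨1, rfl⟩
        order := hw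
        inv := congrArg Subtype.val hinv'
        sq := congrArg Subtype.val hsq
        notMem := fun hm => by
          obtain ⟨i, hi'⟩ := mem_zpowers_iff.1 hm
          have e1 : τ = t ^ i := Subtype.ext (by rw [SubgroupClass.coe_zpow]; exact hi'.symm)
          have e2 : τ * t * τ⁻¹ = t := by
            rw [e1, (Commute.self_zpow t i).symm.eq, mul_inv_cancel_right]
          rw [hinv'] at e2
          refine hne ?_
          rw [← map_mul, MulEquiv.map_eq_one_iff]
          exact (congrArg (· * t) e2.symm).trans (inv_mul_cancel t)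
        card := by
          rw [Nat.card_congr e.toEquiv, DihedralGroup.nat_card]; norm_num }
    refine ⟨S, τ, D, TwoFusion.Dih.all_conj_of_no_index_two (n := 2) (a := t) (b := τ) ?_ hno⟩
    refine TwoFusion.DData.of_card le_rfl (by rw [hto]; rfl) (by rw [D.card]; rfl) ?_ hinv' hsq
    intro hm
    obtain ⟨i, hi'⟩ := mem_zpowers_iff.1 hm
    exact D.notMem (mem_zpowers_iff.2 ⟨i, by simpa using congrArg Subtype.val hi'⟩)
  · -- quaternion
    exfalso
    obtain ⟨m, hm, rfl⟩ : ∃ m, 1 ≤ m ∧ n = m + 1 := ⟨n - 1, by omega, by omega⟩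
    rw [Nat.add_sub_cancel] at e
    obtain ⟨huniq, -⟩ := S3269.quaternion_facts hm
    obtain ⟨E, hE⟩ := exists_four
    obtain ⟨T, hT⟩ := (IsPGroup.of_card (p := 2) (G := E) (n := 2) hE.card_four).exists_le_sylow
    obtain ⟨g, hg⟩ := MulAction.exists_smul_eq G T S
    have hmem : ∀ x : E, g * x * g⁻¹ ∈ (S : Subgroup G) := fun x => by
      rw [← hg, Sylow.coe_subgroup_smul]
      exact ⟨x, hT x.2, rfl⟩
    let f : E → QuaternionGroup (2 ^ m) := fun x => e ⟨g * x * g⁻¹, hmem x⟩
    have hf : Function.Injective f := fun x y h => Subtype.ext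
      (mul_left_cancel (mul_right_cancel (congrArg Subtype.val (e.injective h))))
    have hf2 : ∀ x, f x = 1 ∨ f x = QuaternionGroup.a (2 ^ m : ℕ) := fun x => huniq _ (by
      rw [← map_mul, MulEquiv.map_eq_one_iff]
      refine Subtype.ext ?_
      haveI := hE
      have hxx : (x : G) * x = 1 := congrArg Subtype.val (IsKleinFour.mul_self x)
      show g * x * g⁻¹ * (g * x * g⁻¹) = 1
      calc g * x * g⁻¹ * (g * x * g⁻¹) = g * ((x : G) * x) * g⁻¹ := by group
        _ = 1 := by rw [hxx]; group)
    have h2 : Nat.card E ≤ Nat.card ({1, QuaternionGroup.a (2 ^ m : ℕ)} :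
        Set (QuaternionGroup (2 ^ m))) :=
      Nat.card_le_card_of_injective (fun x => ⟨f x, hf2 x⟩) fun x y h => hf (congrArg Subtype.val h)
    have h3 : Nat.card ({1, QuaternionGroup.a (2 ^ m : ℕ)} : Set (QuaternionGroup (2 ^ m))) ≤ 2 := by
      rw [Nat.card_coe_set_eq]; exact (Set.ncard_insert_le _ _).trans (by rw [Set.ncard_singleton])
    rw [hE.card_four] at h2
    omega
  · -- quasi-dihedral
    exfalso
    obtain ⟨m, a, b, h⟩ := TwoGroups.QDData.of_isQuasiDihedral hQD
    have hq : IsConj (TwoFusion.MC.qG m a) ((a ^ (1 : ℤ) * b : (S : Subgroup G)) : G) := by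
      by_contra hq
      obtain ⟨H, hH⟩ := TwoFusion.QD.exists_index_two_dihedral h hq
      exact hno H hH
    have hconj : IsConj (TwoFusion.MC.qG m a) w := by
      rcases TwoFusion.QD.four_cases h (u := t) hto with e | ⟨-, -, e⟩
      · exact e
      · exact hq.trans e
    have h8 : 2 ^ m ≤ 4 := by
      rw [← hc, ← card_centralizer_of_isConj hconj, ← h.order, ← Subgroup.orderOf_coe,
        ← Nat.card_zpowers]
      refine card_le_of_le (zpowers_le.2 (mem_centralizer_singleton_iff.2 ?_))
      show (a : G) * ((a ^ (2 ^ (m - 2)) : (S : Subgroup G)) : G) = _ * (a : G)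
      rw [SubgroupClass.coe_pow, (Commute.self_pow (a : G) _).eq]
      rfl
    have : 2 ^ 3 ≤ 2 ^ m := Nat.pow_le_pow_right two_pos h.three_le
    omega
where
  exists_four : ∃ E : Subgroup G, IsKleinFour E := by
    haveI : Fact (Nat.Prime 2) := ⟨Nat.prime_two⟩
    have heven : Even (Nat.card G) :=
      even_iff_two_dvd.2 ((show 2 ∣ 4 by norm_num).trans (hw ▸ orderOf_dvd_natCard w))
    have hab := not_isMulCommutative hG
    by_contra hne
    push Not at hne
    obtain ⟨z, hz, hcen⟩ := Invol.exists_central_mod_core heven hne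
    rcases (inferInstance : (pPrimeCore 2 G).Normal).eq_bot_or_eq_top with e | e
    · have hzc : z ∈ center G := mem_center_iff.2 fun g => by
        have h1 := hcen g
        rw [e, mem_bot, mul_inv_eq_one, mul_inv_eq_iff_eq_mul] at h1
        exact h1.symm
      rw [SmallGroups.center_eq_bot hab, mem_bot] at hzc
      rw [hzc] at hz
      simp at hz
    · have h1 := Cores.not_dvd_card_pPrimeCore (p := 2) (G := G)
      rw [e, card_top] at h1
      exact h1 (even_iff_two_dvd.1 heven)

end Cfsg.Agent.SmallCent
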